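import Cfsg.Agent.S5797
import Cfsg.Agent.H419.EP.Soc
import Cfsg.Agent.H117.EP.ModelPSL
import Cfsg.Agent.H321.Orders
import Cfsg.Agent.S0813
import Cfsg.Agent.S0265
import Cfsg.Agent.ClassicalGeometry.PSL2Basic
import Cfsg.Agent.S0815
import Cfsg.Agent.S0283
import Cfsg.Agent.H59.EP.UBFin
import Cfsg.Agent.H417.EP.Eleven

/-!
# S3499, residual class of `SU_5(q)` (row S5797; helper219)
-/

set_option autoImplicit false

namespace Cfsg.Agent.H219.EP

open Cfsg Subgroup Cfsg.Agent.H284 Cfsg.Agent.H419.EP Cfsg.Agent.OrdDiv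
open scoped MatrixGroups

/-- two groups with a model over the same matrix group are isomorphic -/
theorem model_iso {Q Q' : Type*} [Group Q] [Group Q'] {ι : Type} [Fintype ι] [DecidableEq ι] {F : Type*} [Field F]
    {S : Subgroup (GL ι F)} (m : Model Q S) (m' : Model Q' S) : Nonempty (Q ≃* Q') := by
  have hker : m.π.ker = m'.π.ker := by
    ext s
    rw [MonoidHom.mem_ker, MonoidHom.mem_ker, m.ker, m'.ker]
  exact ⟨((QuotientGroup.quotientKerEquivOfSurjective m.π m.surj).symm.trans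
    (QuotientGroup.quotientMulEquivOfEq hker)).trans (QuotientGroup.quotientKerEquivOfSurjective m'.π m'.surj)⟩

/-- the order equation of `PSU_5(q)` -/
theorem card_five {F : Type} [Field F] [Fintype F] {q : ℕ} (hF : Fintype.card F = q ^ 2) :
    Nat.gcd 5 (q + 1) * Nat.card (PSU 5 F q) = q ^ 10 * ((q ^ 2 - 1) * (q ^ 3 + 1) * (q ^ 4 - 1) * (q ^ 5 + 1)) := by
  have h := H321.Orders.psu_eq hF (n := 5) (by norm_num)
  rw [H321.Orders.prU_eq] at h
  simp only [Finset.prod_range_succ, Finset.prod_range_zero] at h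
  norm_num [Nat.even_iff] at h
  have h1 : (q + 1) * (Nat.gcd 5 (q + 1) * Nat.card (PSU 5 F q)) =
      (q + 1) * (q ^ 10 * ((q ^ 2 - 1) * (q ^ 3 + 1) * (q ^ 4 - 1) * (q ^ 5 + 1))) := by
    calc (q + 1) * (Nat.gcd 5 (q + 1) * Nat.card (PSU 5 F q))
        = Nat.gcd 5 (q + 1) * (q + 1) * Nat.card (PSU 5 F q) := by ring
      _ = _ := by rw [h]; ring
  exact Nat.eq_of_mul_eq_mul_left (by omega) h1

theorem card_five_two {F : Type} [Field F] [Fintype F] (hF : Fintype.card F = 2 ^ 2) :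
    Nat.card (PSU 5 F 2) = 13685760 := by
  have h := card_five hF
  norm_num at h
  exact h

theorem card_five_ge {F : Type} [Field F] [Fintype F] {q : ℕ} (hF : Fintype.card F = q ^ 2) {t : ℕ} (ht : t ≤ q) :
    t ^ 10 * ((t ^ 2 - 1) * (t ^ 3 + 1) * (t ^ 4 - 1) * (t ^ 5 + 1)) ≤ 5 * Nat.card (PSU 5 F q) := by
  have h := card_five hF
  have hg : Nat.gcd 5 (q + 1) ≤ 5 := Nat.le_of_dvd (by norm_num) (Nat.gcd_dvd_left 5 (q + 1))
  calc t ^ 10 * ((t ^ 2 - 1) * (t ^ 3 + 1) * (t ^ 4 - 1) * (t ^ 5 + 1))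
      ≤ q ^ 10 * ((q ^ 2 - 1) * (q ^ 3 + 1) * (q ^ 4 - 1) * (q ^ 5 + 1)) := by gcongr
    _ = Nat.gcd 5 (q + 1) * Nat.card (PSU 5 F q) := h.symm
    _ ≤ 5 * Nat.card (PSU 5 F q) := Nat.mul_le_mul_right _ hg

theorem card_aut_l11 : Nat.card (MulAut (Matrix.ProjectiveSpecialLinearGroup (Fin 2) (ZMod 11))) = 1320 := by
  have : Fact (Nat.Prime 11) := ⟨by norm_num⟩
  rw [S0813.result 11 1 le_rfl (by rw [ZMod.card, pow_one]) 2 le_rfl (fun _ => by norm_num),
    S0265.result, ClassicalGeometry.PSL2Basic.card_SL2, ZMod.card]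
  norm_num

theorem card_aut_u42 {K : Type} [Field K] [Fintype K] (hK : Fintype.card K = 2 ^ 2) :
    Nat.card (MulAut (PSU 4 K 2)) = 51840 := by
  have : Fact (Nat.Prime 2) := ⟨Nat.prime_two⟩
  have h := H321.Orders.psu_eq hK (n := 4) (by norm_num)
  rw [H321.Orders.prU_eq] at h
  simp only [Finset.prod_range_succ, Finset.prod_range_zero] at h
  norm_num [Nat.even_iff] at h
  rw [S0815.result 2 1 le_rfl (by norm_num) hK 4 (by norm_num) (by norm_num)]
  norm_num
  omega

/-- **S3499, row of `SU_5(q)`, residual class**, from the index bounds of `L₂(11)` and `U₄(2)`. -/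
theorem row_of {Q : Type} [Group Q] [Finite Q] {A : Subgroup Q} {Γ : Subgroup (MulAut Q)} (h : EPT A Γ) {F : Type}
    [Field F] [Fintype F] {q : ℕ} (m : Model Q (Cfsg.GU 5 F q ⊓ Cfsg.Geo.specialLinear (Fin 5) F))
    (hF : Fintype.card F = q ^ 2) (hres : Cfsg.Geo.InUnitaryResidualClass (m.hat A))
    (h11 : HasSoc A (Matrix.ProjectiveSpecialLinearGroup (Fin 2) (ZMod 11)) → A.index ≤ 10000)
    (hU : ∀ (K : Type) [Field K] [Fintype K], Fintype.card K = 4 → HasSoc A (Cfsg.PSU 4 K 2) →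
      A.index ≤ 150000000000) :
    False := by
  obtain ⟨P, hP, hq, hcase⟩ := Cfsg.Agent.S5797.result q hF (m.hat A) (m.isMaximalIn h.max) hres
  have hsoc := hasSoc_of_core m hP
  obtain ⟨m'⟩ := H117.EP.model_PSU (n := 5) hF (by norm_num)
  obtain ⟨e⟩ := model_iso m m'
  have hcard : Nat.card Q = Nat.card (PSU 5 F q) := Nat.card_congr e.toEquiv
  have hidx : Nat.card A * A.index = Nat.card Q := A.card_mul_index
  rcases hcase with ⟨⟨f⟩, -⟩ | ⟨⟨K, _, _, hK, ⟨f⟩⟩, hq6⟩
  · have hs := hsoc.congr f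
    have h1 := h11 hs
    have h2 : Nat.card A ≤ 1320 := by
      have := hs.card_le
      rwa [card_aut_l11] at this
    have h3 : Nat.card Q ≤ 1320 * 10000 := by
      rw [← hidx]
      exact Nat.mul_le_mul h2 h1
    rw [hcard] at h3
    rcases Nat.lt_or_ge q 3 with h4 | h4
    · have h5 : q = 2 := by have := hq.two_le; omega
      subst h5
      rw [card_five_two hF] at h3
      norm_num at h3
    · have h5 := card_five_ge hF h4
      norm_num at h5
      omega
  · have hs := hsoc.congr f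
    have h1 := hU K hK hs
    have h5 : 5 ≤ q := by omega
    have h6 : Nat.card A ≤ 51840 := by
      have := hs.card_le
      rwa [card_aut_u42 (hK.trans (by norm_num))] at this
    have h3 : Nat.card Q ≤ 51840 * 150000000000 := by
      rw [← hidx]
      exact Nat.mul_le_mul h6 h1
    rw [hcard] at h3
    have h7 := card_five_ge hF h5
    norm_num at h7
    omega

/-! ### a crude bound for every simple group `L` with abelian `Out(L)` -/

/-- the admissible subgroups of `L` -/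
theorem ncard_adm {L : Type} [Group L] [Finite L] [IsSimpleGroup L] (hna : ∃ a b : L, a * b ≠ b * a)
    (h5 : ∀ p, p.Prime → 5 ≤ p → ¬ p ^ 2 ∣ Nat.card L) :
    {K : Subgroup L | H417.EP.Adm K}.ncard ≤ H59.EP.galSum (Nat.card L) * (Nat.card L / 6) + Nat.card L ^ 2 / 60 := by
  refine H59.EP.ncard_le h5 (fun X hX => H59.EP.twoGen X) ?_ (fun M hM => hM.ne_bot) ?_
  · intro M hM
    have h6 : 6 ≤ Nat.card M := H59.EP.six_le fun hc => hM.not_comm hna fun a ha b hb =>
      congrArg Subtype.val (hc ⟨a, ha⟩ ⟨b, hb⟩)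
    have h7 := M.card_mul_index
    rw [Nat.le_div_iff_mul_le (by norm_num)]
    calc M.index * 6 ≤ M.index * Nat.card M := Nat.mul_le_mul_left _ h6
      _ = Nat.card L := by rw [mul_comm, h7]
  · intro M hM K hK hK0 b hb
    refine hM.norm (K.map M.subtype) ?_ ?_ ?_ b hb
    · rintro _ ⟨k, _, rfl⟩
      exact k.2
    · intro e
      rw [Subgroup.map_eq_bot_iff_of_injective _ M.subtype_injective] at e
      exact hK0 e
    · rintro φ y ⟨k, hk, e⟩
      have hky : k = y := Subtype.ext e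
      subst hky
      exact ⟨φ k, by
        have h1 := Subgroup.characteristic_iff_le_comap.1 hK φ hk
        exact h1, rfl⟩

/-- **crude bound** -/
theorem crude {Q : Type} [Group Q] [Finite Q] {A : Subgroup Q} {Γ : Subgroup (MulAut Q)} (h : EPT A Γ) {L : Type}
    [Group L] [Finite L] [IsSimpleGroup L] (hna : ∃ a b : L, a * b ≠ b * a) (hs : HasSoc A L)
    (hOut : ∀ α β : MulAut L, α * β * α⁻¹ * β⁻¹ ∈ (MulAut.conj : L →* MulAut L).range)
    (h5 : ∀ p, p.Prime → 5 ≤ p → ¬ p ^ 2 ∣ Nat.card L) :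
    (A.index - 1) * 5 ≤ (Nat.card L - 1) *
      (H59.EP.galSum (Nat.card L) * (Nat.card L / 6) + Nat.card L ^ 2 / 60 - 1) := by
  classical
  obtain ⟨N, hNA, hN, hcent, ⟨e⟩⟩ := hs
  have : Fintype L := Fintype.ofFinite L
  have hi := H417.EP.base_inv h hNA hN e hcent
  have hne : ∀ x, x ∉ A → H417.EP.tr (H417.EP.emb e) A x ≠ ⊥ := fun x hx =>
    H417.EP.base_tr h hNA hN hna e hcent hOut hx
  refine H417.EP.weight_bound h hi hne (fun t => if t = 1 then 0 else 1) (if_pos rfl) (c := 5) ?_ ?_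
    (ncard_adm hna h5)
  · intro K hK
    have h6 : 6 ≤ Nat.card K := H59.EP.six_le fun hc => hK.not_comm hna fun a ha b hb =>
      congrArg Subtype.val (hc ⟨a, ha⟩ ⟨b, hb⟩)
    have h7 : (∑ t : L, if t ∈ K then (if t = 1 then 0 else 1) else 0) =
        ((Finset.univ.filter fun t : L => t ∈ K).erase 1).card := by
      rw [Finset.card_eq_sum_ones, ← Finset.filter_ne', Finset.filter_filter, Finset.sum_filter]
      refine Finset.sum_congr rfl fun t _ => ?_
      by_cases h1 : t ∈ K <;> by_cases h2 : t = 1 <;> simp [h1, h2]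
    have h8 : (Finset.univ.filter fun t : L => t ∈ K).card = Nat.card K := by
      rw [Nat.card_eq_fintype_card, Fintype.card_subtype]
    have h9 : 5 ≤ ((Finset.univ.filter fun t : L => t ∈ K).erase 1).card := by
      rw [Finset.card_erase_of_mem (Finset.mem_filter.2 ⟨Finset.mem_univ _, K.one_mem⟩), h8]
      omega
    rwa [← h7] at h9
  · have h7 : (∑ t : L, if t = 1 then 0 else 1) = ((Finset.univ : Finset L).erase 1).card := by
      rw [Finset.card_eq_sum_ones, ← Finset.filter_ne', Finset.sum_filter]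
      refine Finset.sum_congr rfl fun t _ => ?_
      by_cases h2 : t = 1 <;> simp [h2]
    rw [h7, Finset.card_erase_of_mem (Finset.mem_univ _), Finset.card_univ, Nat.card_eq_fintype_card]

theorem card_u42 {K : Type} [Field K] [Fintype K] (hK : Fintype.card K = 2 ^ 2) :
    Nat.card (PSU 4 K 2) = 25920 := by
  have h := H321.Orders.psu_eq hK (n := 4) (by norm_num)
  rw [H321.Orders.prU_eq] at h
  simp only [Finset.prod_range_succ, Finset.prod_range_zero] at h
  norm_num [Nat.even_iff] at h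
  omega

/-- the crude bound for `U₄(2)` -/
theorem index_u42 {Q : Type} [Group Q] [Finite Q] {A : Subgroup Q} {Γ : Subgroup (MulAut Q)} (h : EPT A Γ)
    {K : Type} [Field K] [Fintype K] (hK : Fintype.card K = 2 ^ 2) (hs : HasSoc A (PSU 4 K 2)) :
    A.index ≤ 150000000000 := by
  have hsim : IsSimpleGroup (PSU 4 K 2) := S0283.result hK 4 (by norm_num) (by norm_num)
  have hfin : Finite (PSU 4 K 2) := Nat.finite_of_card_ne_zero (by rw [card_u42 hK]; norm_num)
  have hna : ∃ a b : PSU 4 K 2, a * b ≠ b * a := by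
    by_contra hcon
    push Not at hcon
    let _ : CommGroup (PSU 4 K 2) := { (inferInstance : Group (PSU 4 K 2)) with mul_comm := hcon }
    have h1 : (Nat.card (PSU 4 K 2)).Prime := IsSimpleGroup.prime_card
    rw [card_u42 hK] at h1
    norm_num at h1
  have hz : ∀ z : PSU 4 K 2, (∀ x, z * x = x * z) → z = 1 := by
    intro z hz
    have h1 : z ∈ center (PSU 4 K 2) := mem_center_iff.2 fun g => (hz g).symm
    rcases (inferInstance : (center (PSU 4 K 2)).Normal).eq_bot_or_eq_top with h2 | h2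
    · rwa [h2, mem_bot] at h1
    · exfalso
      obtain ⟨a, b, hab⟩ := hna
      have h3 : b ∈ center (PSU 4 K 2) := by rw [h2]; exact mem_top b
      exact hab (mem_center_iff.1 h3 a)
  have hOut := H417.EP.out_comm hz (by rw [card_aut_u42 hK, card_u42 hK])
  have hl : (25920 : ℕ) = (([(2, 6), (3, 4), (5, 1)] : List (ℕ × ℕ)).map fun x => x.1 ^ x.2).prod := by norm_num
  have h1 : ∀ x ∈ ([(2, 6), (3, 4), (5, 1)] : List (ℕ × ℕ)), x.1.Prime ∧ 0 < x.2 := by
    intro x hx
    fin_cases hx <;> norm_num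
  have h2 : (([(2, 6), (3, 4), (5, 1)] : List (ℕ × ℕ)).map Prod.fst).Nodup := by decide
  have h5 : ∀ p, p.Prime → 5 ≤ p → ¬ p ^ 2 ∣ Nat.card (PSU 4 K 2) := by
    rw [card_u42 hK, hl]
    exact H59.EP.not_sq_dvd_list _ h1 h2 (by
      intro x hx
      fin_cases hx <;> norm_num)
  have h3 := crude h hna hs hOut h5
  have hg : (([(2, 6), (3, 4), (5, 1)] : List (ℕ × ℕ)).map fun x => H59.EP.gal x.1 x.2).sum ≤ 3100 := by
    decide +kernel
  have h4 : H59.EP.galSum (Nat.card (PSU 4 K 2)) ≤ 3100 := by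
    rw [card_u42 hK, hl, (H59.EP.galSum_list _ h1 h2).1]
    exact hg
  generalize H59.EP.galSum (Nat.card (PSU 4 K 2)) = g at h3 h4
  rw [card_u42 hK] at h3
  have h6 : g * (25920 / 6) + 25920 ^ 2 / 60 - 1 ≤ 3100 * (25920 / 6) + 25920 ^ 2 / 60 - 1 := by
    have := Nat.mul_le_mul_right (25920 / 6) h4
    omega
  have h7 := h3.trans (Nat.mul_le_mul_left _ h6)
  norm_num at h7
  omega

/-- **S3499, row of `SU_5(q)`, residual class.** -/
theorem row {Q : Type} [Group Q] [Finite Q] (_hs : IsSimpleGroup Q) {A : Subgroup Q} {Γ : Subgroup (MulAut Q)}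
    (h : EPT A Γ) {F : Type} [Field F] [Fintype F] {q : ℕ}
    (m : Model Q (Cfsg.GU 5 F q ⊓ Cfsg.Geo.specialLinear (Fin 5) F))
    (hF : Fintype.card F = q ^ 2) (hres : Cfsg.Geo.InUnitaryResidualClass (m.hat A)) : False := by
  refine row_of h m hF hres ?_ ?_
  · rintro ⟨N, h1, h2, h3, ⟨e⟩⟩
    exact H417.EP.Eleven.index_le' h h1 h2 e h3
  · intro K _ _ hK hs
    exact index_u42 h (hK.trans (by norm_num)) hs

end Cfsg.Agent.H219.EP
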